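import Cfsg.Agent.S4593
import Cfsg.Agent.S0105
import Cfsg.Agent.Lib.Helper37.JR.Two7
import Cfsg.Agent.Lib.Helper37.JR.Orbit
import Cfsg.Agent.Lib.Helper37.JR.PSL2

/-!
# Groups of Janko-Ree type: Sylow 2-subgroups, 2-covers
-/

set_option autoImplicit false

namespace Cfsg.Agent.Lib.Helper37.JR

open Cfsg.Agent.Lib.Helper37.CentralExt

theorem simple_facts {H : Type*} [Group H] [Finite H] [IsSimpleGroup H]
    (hnc : ¬ IsMulCommutative H) (heven : 2 ∣ Nat.card H) :
    Subgroup.center H = ⊥ ∧ Cfsg.pPrimeCore 2 H = ⊥ := by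
  constructor
  · rcases (inferInstance : (Subgroup.center H).Normal).eq_bot_or_eq_top with h | h
    · exact h
    · exfalso
      apply hnc
      refine ⟨⟨fun a b => ?_⟩⟩
      have hb : b ∈ Subgroup.center H := h ▸ Subgroup.mem_top b
      exact Subgroup.mem_center_iff.1 hb a
  · unfold Cfsg.pPrimeCore
    rw [sSup_eq_bot]
    rintro N ⟨hN, hcop⟩
    rcases hN.eq_bot_or_eq_top with h | h
    · exact h
    · exfalso
      subst h
      rw [Subgroup.card_top] at hcop
      have := Nat.Coprime.eq_one_of_dvd hcop.symm heven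
      norm_num at this

theorem mem_sup_of_commute {G : Type*} [Group G] (A B : Subgroup G)
    (h : ∀ a ∈ A, ∀ b ∈ B, a * b = b * a) {x : G} (hx : x ∈ A ⊔ B) :
    ∃ a ∈ A, ∃ b ∈ B, a * b = x := by
  let M : Subgroup G :=
    { carrier := {x | ∃ a ∈ A, ∃ b ∈ B, a * b = x}
      mul_mem' := by
        rintro _ _ ⟨a, ha, b, hb, rfl⟩ ⟨a', ha', b', hb', rfl⟩
        refine ⟨a * a', mul_mem ha ha', b * b', mul_mem hb hb', ?_⟩
        calc a * a' * (b * b') = a * (a' * b) * b' := by group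
          _ = a * b * (a' * b') := by rw [h a' ha' b hb]; group
      one_mem' := ⟨1, A.one_mem, 1, B.one_mem, one_mul 1⟩
      inv_mem' := by
        rintro _ ⟨a, ha, b, hb, rfl⟩
        refine ⟨a⁻¹, inv_mem ha, b⁻¹, inv_mem hb, ?_⟩
        rw [h a ha b hb, _root_.mul_inv_rev] }
  have hle : A ⊔ B ≤ M :=
    sup_le (fun a ha => ⟨a, ha, 1, B.one_mem, mul_one a⟩) (fun b hb => ⟨1, A.one_mem, b, hb, one_mul b⟩)
  exact hle hx

theorem sylow_E8 {G : Type*} [Group G] [Finite G]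
    (hab : ∀ S : Sylow 2 G, IsMulCommutative ↥(S : Subgroup G))
    (t : G) (ht : orderOf t = 2) (E : Subgroup G)
    (hE : Cfsg.IsInternalDirectProduct (Subgroup.zpowers t) E (Subgroup.centralizer ({t} : Set G)))
    {F : Type*} [Field F] [Fintype F] (hFo : Odd (Fintype.card F)) (hF3 : 3 < Fintype.card F)
    (N : Subgroup ↥E) [N.Normal]
    (hN : Nonempty (↥N ≃* Matrix.ProjectiveSpecialLinearGroup (Fin 2) F))
    (hNc : Subgroup.centralizer (N : Set ↥E) = ⊥) :
    ∃ S : Sylow 2 G, Nat.card (S : Subgroup G) = 8 ∧ ∀ x ∈ (S : Subgroup G), x * x = 1 := by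
  obtain ⟨e⟩ := hN
  obtain ⟨hE1, hE2, hE3, hE4, hE5⟩ := hE
  have hQ : ∀ Q : Subgroup G, IsPGroup 2 Q → ∀ x ∈ Q, ∀ y ∈ Q, x * y = y * x := by
    intro Q hQ x hx y hy
    obtain ⟨S, hS⟩ := hQ.exists_le_sylow
    exact congrArg Subtype.val ((hab S).is_comm.comm ⟨x, hS hx⟩ ⟨y, hS hy⟩)
  let ι : ↥N →* G := E.subtype.comp N.subtype
  have hι : Function.Injective ι := E.subtype_injective.comp N.subtype_injective
  let f : Matrix.ProjectiveSpecialLinearGroup (Fin 2) F →* G := ι.comp e.symm.toMonoidHom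
  have hf : Function.Injective f := hι.comp e.symm.injective
  have hmod := mod_eight_of_two_ab hFo (fun Q hQ2 x hx y hy => hf (by
    rw [map_mul, map_mul]
    exact hQ _ (hQ2.map f) _ (Subgroup.mem_map_of_mem _ hx) _ (Subgroup.mem_map_of_mem _ hy)))
  have hsP : IsSimpleGroup (Matrix.ProjectiveSpecialLinearGroup (Fin 2) F) :=
    Matrix.ProjectiveSpecialLinearGroup.rank_two_simple (by rw [Nat.card_eq_fintype_card]; exact hF3)
  have hsN : IsSimpleGroup ↥N := e.isSimpleGroup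
  obtain ⟨V₀⟩ : Nonempty (Sylow 2 ↥N) := inferInstance
  let P : Sylow 2 (Matrix.ProjectiveSpecialLinearGroup (Fin 2) F) :=
    V₀.comapOfInjective e.symm.toMonoidHom e.symm.injective
      (by intro x _; exact ⟨e x, e.symm_apply_apply x⟩)
  have hP : ∀ y, y ∈ (P : Subgroup (Matrix.ProjectiveSpecialLinearGroup (Fin 2) F)) ↔
      e.symm y ∈ (V₀ : Subgroup ↥N) := fun y => Iff.rfl
  have hK : IsKleinFour (P : Subgroup (Matrix.ProjectiveSpecialLinearGroup (Fin 2) F)) :=
    Cfsg.Agent.S0276.result rfl hmod P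
  have hV4 : Nat.card (V₀ : Subgroup ↥N) = 4 := by
    rw [V₀.card_eq_multiplicity, Nat.card_congr e.toEquiv, ← P.card_eq_multiplicity]
    exact hK.card_four
  have hV2 : ∀ x ∈ (V₀ : Subgroup ↥N), x * x = 1 := by
    intro x hx
    have hx' : e x ∈ (P : Subgroup (Matrix.ProjectiveSpecialLinearGroup (Fin 2) F)) :=
      (hP _).2 (by rw [e.symm_apply_apply]; exact hx)
    have h1 : (⟨e x, hx'⟩ : (P : Subgroup (Matrix.ProjectiveSpecialLinearGroup (Fin 2) F))) ^ 2 = 1 := by
      have h0 := Monoid.pow_exponent_eq_one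
        (⟨e x, hx'⟩ : (P : Subgroup (Matrix.ProjectiveSpecialLinearGroup (Fin 2) F)))
      rwa [hK.exponent_two] at h0
    have h2 : e x ^ 2 = 1 := congrArg Subtype.val h1
    apply e.injective
    rw [map_mul, map_one, ← pow_two]
    exact h2
  have hNnc : ¬ IsMulCommutative ↥N := by
    intro hc
    have hall : ∀ x : ↥N, x = 1 := by
      intro x
      have hx : (x : ↥E) ∈ Subgroup.centralizer (N : Set ↥E) := by
        rw [Subgroup.mem_centralizer_iff]
        intro y hy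
        exact congrArg Subtype.val (hc.is_comm.comm ⟨y, hy⟩ x)
      rw [hNc, Subgroup.mem_bot] at hx
      exact Subtype.ext hx
    have h1 : Nat.card (V₀ : Subgroup ↥N) ≤ 1 :=
      Finite.card_le_one_iff_subsingleton.2
        ⟨fun a b => Subtype.ext ((hall a).trans (hall b).symm)⟩
    omega
  have hNeven : 2 ∣ Nat.card ↥N := by
    have := Subgroup.card_subgroup_dvd_card (V₀ : Subgroup ↥N)
    rw [hV4] at this
    exact Dvd.dvd.trans (by norm_num) this
  obtain ⟨hZN, hcoreN⟩ := simple_facts hNnc hNeven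
  let V : Subgroup G := (V₀ : Subgroup ↥N).map ι
  have hV2G : IsPGroup 2 V := V₀.isPGroup'.map ι
  have hVE : V ≤ E := by
    rintro _ ⟨x, -, rfl⟩
    exact (x : ↥E).2
  have htV : ∀ v ∈ V, t * v = v * t := fun v hv => hE3 t (Subgroup.mem_zpowers t) v (hVE hv)
  have ht2 : IsPGroup 2 (Subgroup.zpowers t) :=
    IsPGroup.of_card (n := 1) (by rw [Nat.card_zpowers, ht, pow_one])
  have hT0 : IsPGroup 2 (Subgroup.zpowers t ⊔ V : Subgroup G) := by
    apply IsPGroup.to_sup_of_normal_right' ht2 hV2G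
    rw [Subgroup.zpowers_le, Subgroup.mem_normalizer_iff]
    intro v
    constructor
    · intro hv
      rw [htV v hv, mul_inv_cancel_right]
      exact hv
    · intro hv
      have h1 := htV _ hv
      have h2 : t * v * t⁻¹ = v := by
        have : t * (t * v * t⁻¹) * t⁻¹ = t * v * t⁻¹ := by rw [h1, mul_inv_cancel_right]
        exact mul_left_cancel (mul_right_cancel this)
      rw [h2] at hv
      exact hv
  obtain ⟨S, hS⟩ := hT0.exists_le_sylow
  have htS : t ∈ (S : Subgroup G) := hS (Subgroup.mem_sup_left (Subgroup.mem_zpowers t))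
  have hVS : V ≤ S := le_sup_right.trans hS
  have hSab := hQ S S.isPGroup'
  have key : ∀ x ∈ (S : Subgroup G), x ∈ E → x ∈ V := by
    intro x hxS hxE
    let x' : ↥E := ⟨x, hxE⟩
    let α : MulAut ↥N := MulAut.conjNormal x'
    have hα : ∀ y : ↥N, ι (α y) = x * ι y * x⁻¹ := fun y => rfl
    obtain ⟨k, hk⟩ := S.isPGroup' ⟨x, hxS⟩
    have hxk : x' ^ 2 ^ k = 1 := Subtype.ext (by simpa using congrArg Subtype.val hk)
    have hαk : α ^ 2 ^ k = 1 := by
      show (MulAut.conjNormal x') ^ 2 ^ k = 1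
      rw [← map_pow, hxk, map_one]
    obtain ⟨j, -, hj⟩ := (Nat.dvd_prime_pow Nat.prime_two).1 (orderOf_dvd_of_pow_eq_one hαk)
    have hfix : ∀ y ∈ (V₀ : Subgroup ↥N), α y = y := by
      intro y hy
      apply hι
      rw [hα, hSab x hxS (ι y) (hVS (Subgroup.mem_map_of_mem _ hy)), mul_inv_cancel_right]
    have hV₀ab : IsMulCommutative (V₀ : Subgroup ↥N) := ⟨⟨fun a b => Subtype.ext (hι (by
      rw [Subgroup.coe_mul, Subgroup.coe_mul, map_mul, map_mul]
      exact hSab _ (hVS (Subgroup.mem_map_of_mem _ a.2)) _ (hVS (Subgroup.mem_map_of_mem _ b.2))))⟩⟩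
    obtain ⟨g, hg⟩ := Cfsg.Agent.S4593.result hZN hcoreN V₀ hV₀ab α ⟨j, hj⟩ hfix
    have hcen : (g : ↥E)⁻¹ * x' ∈ Subgroup.centralizer (N : Set ↥E) := by
      rw [Subgroup.mem_centralizer_iff]
      intro y hy
      have h1 : ι (α ⟨y, hy⟩) = ι (g * ⟨y, hy⟩ * g⁻¹) := congrArg ι (hg ⟨y, hy⟩)
      rw [hα, map_mul, map_mul, map_inv] at h1
      apply Subtype.ext
      show (y : G) * ((ι g)⁻¹ * x) = (ι g)⁻¹ * x * (y : G)
      have h2 : x * (y : G) * x⁻¹ = ι g * (y : G) * (ι g)⁻¹ := h1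
      have h3 : x * (y : G) = ι g * (y : G) * (ι g)⁻¹ * x := mul_inv_eq_iff_eq_mul.1 h2
      calc (y : G) * ((ι g)⁻¹ * x) = (ι g)⁻¹ * (ι g * (y : G) * (ι g)⁻¹ * x) := by group
        _ = (ι g)⁻¹ * x * (y : G) := by rw [← h3]; group
    rw [hNc, Subgroup.mem_bot, inv_mul_eq_one] at hcen
    have hgx : ι g = x := congrArg Subtype.val hcen
    have hmax : ((S : Subgroup G).comap ι) = V₀ :=
      V₀.is_maximal' (S.isPGroup'.comap_of_injective ι hι)
        (by intro y hy; exact hVS (Subgroup.mem_map_of_mem _ hy))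
    have hgV : g ∈ (V₀ : Subgroup ↥N) := by
      rw [← hmax, Subgroup.mem_comap, hgx]
      exact hxS
    exact ⟨g, hgV, hgx⟩
  have hdec : ∀ s ∈ (S : Subgroup G), ∃ a ∈ Subgroup.zpowers t, ∃ v ∈ V, a * v = s := by
    intro s hs
    have hsC : s ∈ Subgroup.centralizer ({t} : Set G) := by
      rw [Subgroup.mem_centralizer_singleton_iff]
      exact hSab _ hs _ htS
    rw [← hE5] at hsC
    obtain ⟨a, ha, b, hb, rfl⟩ := mem_sup_of_commute _ _ hE3 hsC
    have haS : a ∈ (S : Subgroup G) := (Subgroup.zpowers_le.2 htS) ha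
    refine ⟨a, ha, b, key b ?_ hb, rfl⟩
    have := mul_mem (inv_mem haS) hs
    rwa [inv_mul_cancel_left] at this
  refine ⟨S, ?_, ?_⟩
  · let φ : ↥(Subgroup.zpowers t) × ↥(V₀ : Subgroup ↥N) → ↥(S : Subgroup G) := fun p =>
      ⟨p.1 * ι p.2, mul_mem (Subgroup.zpowers_le.2 htS p.1.2) (hVS (Subgroup.mem_map_of_mem _ p.2.2))⟩
    have hφ : Function.Bijective φ := by
      constructor
      · rintro ⟨a, y⟩ ⟨a', y'⟩ h
        have h1 : (a : G) * ι y = (a' : G) * ι y' := congrArg Subtype.val h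
        have h2 : (a' : G)⁻¹ * a = ι y' * (ι y)⁻¹ := by
          rw [eq_mul_inv_iff_mul_eq, mul_assoc, h1, inv_mul_cancel_left]
        have h3 : (a' : G)⁻¹ * a ∈ Subgroup.zpowers t ⊓ E := by
          refine Subgroup.mem_inf.2 ⟨mul_mem (inv_mem a'.2) a.2, ?_⟩
          rw [h2]
          exact mul_mem (hVE (Subgroup.mem_map_of_mem _ y'.2)) (inv_mem (hVE (Subgroup.mem_map_of_mem _ y.2)))
        rw [hE4, Subgroup.mem_bot] at h3
        have h4 : (a' : G) = a := inv_mul_eq_one.1 h3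
        have h5 : ι y' = ι y := by
          rw [h3] at h2
          exact (mul_inv_eq_one.1 h2.symm)
        exact Prod.ext (Subtype.ext h4.symm) (Subtype.ext (hι h5.symm))
      · rintro ⟨s, hs⟩
        obtain ⟨a, ha, _, ⟨y, hy, rfl⟩, h⟩ := hdec s hs
        exact ⟨(⟨a, ha⟩, ⟨y, hy⟩), Subtype.ext h⟩
    rw [← Nat.card_congr (Equiv.ofBijective φ hφ), Nat.card_prod, Nat.card_zpowers, ht, hV4]
  · intro s hs
    obtain ⟨a, ha, _, ⟨y, hy, rfl⟩, rfl⟩ := hdec s hs
    have ha2 : a * a = 1 := by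
      have h1 := orderOf_dvd_of_mem_zpowers ha
      rw [ht] at h1
      rw [← pow_two]
      exact orderOf_dvd_iff_pow_eq_one.1 h1
    have hy2 : ι y * ι y = 1 := by rw [← map_mul, hV2 y hy, map_one]
    have hc := hE3 a ha (ι y) (hVE (Subgroup.mem_map_of_mem _ hy))
    calc a * ι y * (a * ι y) = a * (ι y * a) * ι y := by group
      _ = a * a * (ι y * ι y) := by rw [← hc]; group
      _ = 1 := by rw [ha2, hy2, one_mul]

theorem no_cover {G : Type*} [Group G] [Finite G] [IsSimpleGroup G] (hG : ¬ IsMulCommutative G)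
    (S : Sylow 2 G) (h8 : Nat.card (S : Subgroup G) = 8) (h2 : ∀ x ∈ (S : Subgroup G), x * x = 1)
    {L : Type*} [Group L] [Finite L] (Z : Subgroup L) [Z.Normal] (hL : commutator L = ⊤)
    (hZ : Z ≤ Subgroup.center L) (hZ2 : IsPGroup 2 ↥Z) (hiso : Nonempty (L ⧸ Z ≃* G)) : Z = ⊥ := by
  obtain ⟨e⟩ := hiso
  let σ : L →* G := e.toMonoidHom.comp (QuotientGroup.mk' Z)
  have hs : Function.Surjective σ := e.surjective.comp (QuotientGroup.mk'_surjective Z)
  have hker : σ.ker = Z := by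
    ext x
    rw [MonoidHom.mem_ker]
    show e (QuotientGroup.mk x) = 1 ↔ _
    rw [MulEquiv.map_eq_one_iff, QuotientGroup.eq_one_iff]
  have hinv : ∀ x ∈ (S : Subgroup G), x⁻¹ = x := fun x hx => inv_eq_of_mul_eq_one_left (h2 x hx)
  have hab : ∀ x ∈ (S : Subgroup G), ∀ y ∈ (S : Subgroup G), x * y = y * x := by
    intro x hx y hy
    have h := hinv _ (mul_mem hx hy)
    rw [_root_.mul_inv_rev, hinv x hx, hinv y hy] at h
    exact h.symm
  have hScomm : IsMulCommutative (S : Subgroup G) :=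
    ⟨⟨fun a b => Subtype.ext (hab _ a.2 _ b.2)⟩⟩
  have hfix : ∀ s ∈ (S : Subgroup G),
      (∀ n ∈ Subgroup.normalizer ((S : Subgroup G) : Set G), n * s * n⁻¹ = s) → s = 1 := by
    obtain ⟨N₁, hN₁, ⟨e₁⟩⟩ := Cfsg.Agent.S0105.result S hScomm
    rcases hN₁.eq_bot_or_eq_top with h | h
    · subst h
      exfalso
      apply hG
      refine ⟨⟨fun a b => ?_⟩⟩
      have h1 : (QuotientGroup.mk a : G ⧸ (⊥ : Subgroup G)) * QuotientGroup.mk b
          = QuotientGroup.mk b * QuotientGroup.mk a := e₁.injective (by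
        rw [map_mul, map_mul]
        exact Subtype.ext (hab _ (Subgroup.mem_inf.1 (e₁ _).2).1 _ (Subgroup.mem_inf.1 (e₁ _).2).1))
      rw [← QuotientGroup.mk_mul, ← QuotientGroup.mk_mul, QuotientGroup.eq, Subgroup.mem_bot,
        inv_mul_eq_one] at h1
      exact h1
    · subst h
      intro s hs hsn
      have hmem : s ∈ (S : Subgroup G) ⊓
          Subgroup.centralizer (Subgroup.normalizer ((S : Subgroup G) : Set G) : Set G) := by
        refine Subgroup.mem_inf.2 ⟨hs, ?_⟩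
        rw [Subgroup.mem_centralizer_iff]
        intro n hn
        exact mul_inv_eq_iff_eq_mul.1 (hsn n hn)
      have hsub : Subsingleton (G ⧸ (⊤ : Subgroup G)) := QuotientGroup.subsingleton_quotient_top
      have h1 : e₁.symm ⟨s, hmem⟩ = e₁.symm 1 := Subsingleton.elim _ _
      exact congrArg Subtype.val (e₁.symm.injective h1)
  obtain ⟨n, hnS, hn7, s₀, hs₀, hns⟩ := exists_seven S h8 hab hfix
  have hlift := two_part' σ hs (hker ▸ hZ) (S : Subgroup G) h8 h2 n hn7 hnS s₀ hs₀ hns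
  rw [Subgroup.eq_bot_iff_forall]
  intro z hz
  have h := pow_index_mem_commutator ((S : Subgroup G).comap σ) (hZ hz) (hL ▸ Subgroup.mem_top z)
  rw [Subgroup.index_comap_of_surjective _ hs] at h
  have hbot : ⁅(S : Subgroup G).comap σ, (S : Subgroup G).comap σ⁆ = ⊥ := by
    rw [Subgroup.commutator_eq_bot_iff_le_centralizer]
    intro u hu
    rw [Subgroup.mem_centralizer_iff]
    intro v hv
    exact hlift v u hv hu
  rw [hbot, Subgroup.mem_bot] at h
  obtain ⟨k, hk⟩ := hZ2 ⟨z, hz⟩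
  have hk' : z ^ 2 ^ k = 1 := by simpa using congrArg Subtype.val hk
  have hcop : Nat.Coprime (2 ^ k) (S : Subgroup G).index :=
    Nat.Coprime.pow_left k ((Nat.Prime.coprime_iff_not_dvd Nat.prime_two).2 S.not_dvd_index)
  have := pow_gcd_eq_one.2 ⟨hk', h⟩
  rwa [hcop.gcd_eq_one, pow_one] at this

end Cfsg.Agent.Lib.Helper37.JR
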